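import Groth.Agent.Fga.RelCart
import Groth.Agent.Picfga.HilbPull
import Groth.Prelude.Def_HilbD

/-!
# The locus of Cartier divisors in `Hilb^d` is open and compatible with base change
-/

set_option autoImplicit false

universe u

open CategoryTheory CategoryTheory.Limits AlgebraicGeometry TopologicalSpace

namespace K279.DivLocus

open Groth.Agent Groth.Agent.Fga.RelCart

theorem exists_divLocus {X S : Scheme.{u}} [IsLocallyNoetherian S] (f : X ⟶ S) [IsProper f] [Flat f] (d : ℕ) (Z : Over S)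
    [IsLocallyNoetherian Z.left] (D : HilbD.Obj f d Z) :
    ∃ U : Z.left.Opens, ∀ (T : Over S) [IsLocallyNoetherian T.left] (t : T ⟶ Z),
      Set.range t.left ⊆ (U : Set Z.left) ↔ BlowUp.IsEffCartierIdeal (HilbD.pull f t D.1) := by
  have hp : IsProper (PicF.XTproj f Z) := inferInstanceAs (IsProper (pullback.snd f Z.hom))
  have hfl : Flat (PicF.XTproj f Z) := inferInstanceAs (Flat (pullback.snd f Z.hom))
  have hN : IsLocallyNoetherian (PicF.XT f Z) := LocallyOfFiniteType.isLocallyNoetherian (PicF.XTproj f Z)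
  have hD : Flat (D.1.subschemeι ≫ PicF.XTproj f Z) := D.2.1.2.1
  let U : Z.left.Opens :=
    ⟨(PicF.XTproj f Z '' {x | Eff D.1 x}ᶜ)ᶜ,
      ((PicF.XTproj f Z).isClosedMap _ (isOpen_eff D.1).isClosed_compl).isOpen_compl⟩
  refine ⟨U, fun T hT t => ?_⟩
  have hpT : IsProper (PicF.XTproj f T) := inferInstanceAs (IsProper (pullback.snd f T.hom))
  have hNT : IsLocallyNoetherian (PicF.XT f T) := LocallyOfFiniteType.isLocallyNoetherian (PicF.XTproj f T)
  have hsq := isPullback_XTmap f t
  have key : BlowUp.IsEffCartierIdeal (HilbD.pull f t D.1) ↔ ∀ z, Eff D.1 (PicF.XTmap f t z) := by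
    rw [show BlowUp.IsEffCartierIdeal (HilbD.pull f t D.1) ↔ FGA.IsEffCartier (HilbD.pull f t D.1) from Iff.rfl,
      isEffCartier_iff, Picfga.HilbPull.pull_eq_comap]
    exact forall_congr' fun z => (eff_iff_baseChange hsq D.1 z).symm
  rw [key]
  constructor
  · intro h z
    by_contra hz
    have h1 : t.left (PicF.XTproj f T z) ∈ (U : Set Z.left) := h ⟨_, rfl⟩
    refine h1 ⟨PicF.XTmap f t z, hz, ?_⟩
    rw [← Scheme.Hom.comp_apply, hsq.w, Scheme.Hom.comp_apply]
  · rintro h _ ⟨y, rfl⟩ ⟨x, hx, hxy⟩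
    obtain ⟨z, hz1, hz2⟩ := Scheme.exists_preimage_of_isPullback hsq x y hxy
    exact hx (hz1 ▸ h z)

end K279.DivLocus
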